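import Mathlib
import Groth.Prelude.Def_FDesc
import Groth.Prelude.Def_MoreMor
import Groth.Agent.Lib.Helper7.IrrConn.Main
import Groth.Agent.Lib.Helper7.GeomConn.IrrCount
import Groth.Agent.Lib.Helper7.ProConsLib2
import Groth.Agent.Lib.Helper7.SpectralLimit4
import Groth.Agent.S1301
import Groth.Agent.S1338
import Groth.Agent.S1339

/-!
# Local constructibility of the locus of geometrically pointwise integral fibres (helper7)

The fibre over `s` is geometrically pointwise integral iff it is geometrically reduced and the
geometric numbers of irreducible and connected components agree (`IrrConn.main`); the level sets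
of these two functions and the geometrically reduced locus are locally constructible.
-/

set_option linter.style.haveILetI false
set_option linter.unusedVariables false
set_option linter.unusedSectionVars false
set_option autoImplicit false
set_option backward.isDefEq.respectTransparency.types false
set_option synthInstance.maxHeartbeats 400000
set_option maxHeartbeats 1600000

universe u

namespace Groth.Agent.Helper7.GPICons

section Top

open Topology TopologicalSpace

theorem isClopen_setOf_eq {T : Type*} [TopologicalSpace T] (a b : T → ℕ∞)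
    (ha : ∀ n, IsClopen {x | a x = n}) (hb : ∀ n, IsClopen {x | b x = n}) :
    IsClopen {x | a x = b x} := by
  have hcompl : {x | a x = b x}ᶜ =
      ⋃ (p : ℕ∞ × ℕ∞) (_ : p.1 ≠ p.2), {x | a x = p.1} ∩ {x | b x = p.2} := by
    ext x
    simp only [Set.mem_compl_iff, Set.mem_ofPred_eq, Set.mem_iUnion, Set.mem_inter_iff, exists_prop]
    constructor
    · intro h
      exact ⟨(a x, b x), h, rfl, rfl⟩
    · rintro ⟨p, hp, h1, h2⟩ h
      exact hp (by rw [← h1, ← h2, h])
  have hunion : {x | a x = b x} = ⋃ n : ℕ∞, {x | a x = n} ∩ {x | b x = n} := by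
    ext x
    simp only [Set.mem_ofPred_eq, Set.mem_iUnion, Set.mem_inter_iff]
    constructor
    · intro h
      exact ⟨a x, rfl, h.symm⟩
    · rintro ⟨n, h1, h2⟩
      rw [h1, h2]
  constructor
  · rw [← isOpen_compl_iff, hcompl]
    exact isOpen_iUnion fun p => isOpen_iUnion fun _ => (ha p.1).2.inter (hb p.2).2
  · rw [hunion]
    exact isOpen_iUnion fun n => (ha n).2.inter (hb n).2

variable {X : Type u} [TopologicalSpace X]

theorem isConstructible_setOf_eq_of_spectral [SpectralSpace X] (a b : X → ℕ∞)
    (ha : ∀ n, IsConstructible {x | a x = n}) (hb : ∀ n, IsConstructible {x | b x = n}) :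
    IsConstructible {x | a x = b x} := by
  apply Groth.Agent.Helper7.ProConsLib.isConstructible_of_isClopen_cons
  exact @isClopen_setOf_eq X (constructibleTopology X) a b
    (fun n => Groth.Agent.Helper7.isClopen_cons_of_isConstructible (ha n))
    (fun n => Groth.Agent.Helper7.isClopen_cons_of_isConstructible (hb n))

theorem isLocallyConstructible_setOf_eq {ι : Type*} {U : ι → Opens X} (hU : IsOpenCover U)
    (hsp : ∀ i, SpectralSpace ↥(U i : Set X)) (a b : X → ℕ∞)
    (ha : ∀ n, IsLocallyConstructible {x | a x = n})
    (hb : ∀ n, IsLocallyConstructible {x | b x = n}) :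
    IsLocallyConstructible {x | a x = b x} := by
  refine IsLocallyConstructible.of_isOpenCover hU fun i => ?_
  haveI := hsp i
  have hA : ∀ n, IsConstructible {x : ↥(U i : Set X) | a x.1 = n} := fun n =>
    ((ha n).preimage_of_isOpenEmbedding (U i).2.isOpenEmbedding_subtypeVal).isConstructible
  have hB : ∀ n, IsConstructible {x : ↥(U i : Set X) | b x.1 = n} := fun n =>
    ((hb n).preimage_of_isOpenEmbedding (U i).2.isOpenEmbedding_subtypeVal).isConstructible
  exact (isConstructible_setOf_eq_of_spectral (fun x : ↥(U i : Set X) => a x.1)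
    (fun x => b x.1) hA hB).isLocallyConstructible

theorem finite_connectedComponents {α : Type*} [TopologicalSpace α]
    (hfin : (irreducibleComponents α).Finite) : Finite (_root_.ConnectedComponents α) := by
  haveI : Finite ↥(irreducibleComponents α) := hfin.to_subtype
  have hne : ∀ Z : ↥(irreducibleComponents α), ∃ x, x ∈ Z.1 := fun Z => Z.2.1.1
  choose pt hpt using hne
  let Ψ : ↥(irreducibleComponents α) → _root_.ConnectedComponents α :=
    fun Z => (pt Z : _root_.ConnectedComponents α)
  refine Finite.of_surjective Ψ ?_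
  intro c
  obtain ⟨y, rfl⟩ := ConnectedComponents.surjective_coe c
  refine ⟨⟨irreducibleComponent y, irreducibleComponent_mem_irreducibleComponents y⟩, ?_⟩
  show (pt ⟨irreducibleComponent y, irreducibleComponent_mem_irreducibleComponents y⟩ :
    _root_.ConnectedComponents α) = y
  rw [ConnectedComponents.coe_eq_coe]
  have h1 : irreducibleComponent y ⊆ connectedComponent y :=
    isIrreducible_irreducibleComponent.isConnected.isPreconnected.subset_connectedComponent
      mem_irreducibleComponent
  exact (connectedComponent_eq (h1 (hpt ⟨irreducibleComponent y,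
    irreducibleComponent_mem_irreducibleComponents y⟩))).symm

end Top

section Scheme

open AlgebraicGeometry CategoryTheory Limits

theorem spectralSpace_of_isAffineOpen {S : Scheme.{u}} {U : S.Opens} (hU : IsAffineOpen U) :
    SpectralSpace ↥(U : Set S) := by
  haveI : CompactSpace ↥(U : Set S) := isCompact_iff_compactSpace.mp hU.isCompact
  haveI : QuasiSeparatedSpace ↥(U : Set S) :=
    (isQuasiSeparated_iff_quasiSeparatedSpace (U : Set S) U.2).mp hU.isQuasiSeparated
  haveI : QuasiSober ↥(U : Set S) := U.2.isOpenEmbedding_subtypeVal.quasiSober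
  haveI : PrespectralSpace ↥(U : Set S) := U.2.isOpenEmbedding_subtypeVal.prespectralSpace
  exact {}

theorem geomPtIntegral_iff_aux {k ks Ω : Type u} [Field k] [Field ks] [Field Ω] [Algebra k ks]
    [Algebra ks Ω] [Algebra k Ω] [IsScalarTower k ks Ω] [IsSepClosed ks] [IsAlgClosed Ω]
    {Y : Scheme.{u}} (g : Y ⟶ Spec (CommRingCat.of k)) [LocallyOfFiniteType g] [QuasiCompact g] :
    (∀ x : Y, FBase.IsGeomPtIntegralAt g x) ↔
      (GeometricallyReduced g ∧
        (irreducibleComponents ↥(FBase.bc g ks)).encard =
          ENat.card (_root_.ConnectedComponents ↥(FBase.bc g ks))) := by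
  rw [Groth.Agent.Helper7.IrrConn.main g Ω]
  refine and_congr_right fun _ => ?_
  have hcomp : Spec.map (CommRingCat.ofHom (algebraMap k Ω)) =
      Spec.map (CommRingCat.ofHom (algebraMap ks Ω)) ≫
        Spec.map (CommRingCat.ofHom (algebraMap k ks)) := by
    rw [IsScalarTower.algebraMap_eq k ks Ω, CommRingCat.ofHom_comp, Spec.map_comp]
  have big : IsPullback (FBase.bcπ g Ω) (FBase.bcStr g Ω) g
      (Spec.map (CommRingCat.ofHom (algebraMap ks Ω)) ≫
        Spec.map (CommRingCat.ofHom (algebraMap k ks))) := by
    rw [← hcomp]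
    exact IsPullback.of_hasPullback _ _
  obtain ⟨σ, hσ⟩ : ∃ σ : FBase.bc g Ω ⟶ FBase.bc g ks,
      IsPullback σ (FBase.bcStr g Ω)
        (pullback.snd g (Spec.map (CommRingCat.ofHom (algebraMap k ks))))
        (Spec.map (CommRingCat.ofHom (algebraMap ks Ω))) :=
    ⟨_, IsPullback.of_right' big
      (IsPullback.of_hasPullback g (Spec.map (CommRingCat.ofHom (algebraMap k ks))))⟩
  have hA : (irreducibleComponents ↥(FBase.bc g Ω)).encard =
      (irreducibleComponents ↥(FBase.bc g ks)).encard :=
    Groth.Agent.Helper7.GeomConn.encard_irreducibleComponents_of_isSepClosed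
      (CommRingCat.ofHom (algebraMap ks Ω))
      (pullback.snd g (Spec.map (CommRingCat.ofHom (algebraMap k ks)))) (FBase.bcStr g Ω) σ hσ
  have hB : ENat.card (_root_.ConnectedComponents ↥(FBase.bc g Ω)) =
      ENat.card (_root_.ConnectedComponents ↥(FBase.bc g ks)) :=
    ENat.card_congr (Equiv.ofBijective _
      (Groth.Agent.Helper7.GeomConn.connectedComponentsMap_bijective_of_isSepClosed
        (CommRingCat.ofHom (algebraMap ks Ω))
        (pullback.snd g (Spec.map (CommRingCat.ofHom (algebraMap k ks)))) (FBase.bcStr g Ω) σ hσ))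
  haveI := Groth.Agent.Helper7.IrrConn.isNoetherian_bc g Ω
  have hfin : (irreducibleComponents ↥(FBase.bc g Ω)).Finite :=
    TopologicalSpace.NoetherianSpace.finite_irreducibleComponents
  haveI : Finite ↥(irreducibleComponents ↥(FBase.bc g Ω)) := hfin.to_subtype
  haveI : Finite (_root_.ConnectedComponents ↥(FBase.bc g Ω)) := finite_connectedComponents hfin
  rw [← hA, ← hB, Set.encard, ENat.card_eq_coe_natCard, ENat.card_eq_coe_natCard, Nat.cast_inj]

theorem geomPtIntegral_iff {k : Type u} [Field k] {Y : Scheme.{u}}
    (g : Y ⟶ Spec (CommRingCat.of k)) [LocallyOfFiniteType g] [QuasiCompact g] :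
    (∀ x : Y, FBase.IsGeomPtIntegralAt g x) ↔
      (GeometricallyReduced g ∧
        (irreducibleComponents ↥(FBase.bc g (SeparableClosure k))).encard =
          ENat.card (_root_.ConnectedComponents ↥(FBase.bc g (SeparableClosure k)))) :=
  geomPtIntegral_iff_aux (ks := SeparableClosure k)
    (Ω := AlgebraicClosure (SeparableClosure k)) g

variable {X S : Scheme.{u}} (f : X ⟶ S)

theorem mem_iff [LocallyOfFinitePresentation f] [QuasiCompact f] (s : S) :
    (∀ x : ↥(f.fiber s), FBase.IsGeomPtIntegralAt (f.fiberToSpecResidueField s) x) ↔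
      (GeometricallyReduced (f.fiberToSpecResidueField s) ∧
        MoreMor.nGeomIrredComp f s = MoreMor.nGeomConnComp f s) := by
  have h1 : LocallyOfFiniteType (f.fiberToSpecResidueField s) :=
    MorphismProperty.pullback_snd _ _ inferInstance
  have h2 : QuasiCompact (f.fiberToSpecResidueField s) :=
    MorphismProperty.pullback_snd _ _ inferInstance
  exact @geomPtIntegral_iff (S.residueField s) _ (f.fiber s) (f.fiberToSpecResidueField s) h1 h2

theorem main [LocallyOfFinitePresentation f] [QuasiCompact f] [QuasiSeparated f] :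
    Topology.IsLocallyConstructible {s : S |
      ∀ x : ↥(f.fiber s), FBase.IsGeomPtIntegralAt (f.fiberToSpecResidueField s) x} := by
  have hset : {s : S | ∀ x : ↥(f.fiber s),
        FBase.IsGeomPtIntegralAt (f.fiberToSpecResidueField s) x} =
      {s : S | GeometricallyReduced (f.fiberToSpecResidueField s)} ∩
        {s : S | MoreMor.nGeomIrredComp f s = MoreMor.nGeomConnComp f s} := by
    ext s
    exact mem_iff f s
  rw [hset]
  refine (Groth.Agent.S1301.result f).inter ?_
  exact isLocallyConstructible_setOf_eq (U := fun U : S.affineOpens => U.1)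
    (iSup_affineOpens_eq_top S) (fun U => spectralSpace_of_isAffineOpen U.2)
    (MoreMor.nGeomIrredComp f) (MoreMor.nGeomConnComp f)
    (fun n => Groth.Agent.S1338.result f n) (fun n => Groth.Agent.S1339.result f n)

end Scheme

end Groth.Agent.Helper7.GPICons
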